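import Groth.Agent.Lefpen.H724.Quad
import Mathlib.AlgebraicGeometry.Morphisms.Proper
import Mathlib.RingTheory.DiscreteValuationRing.Basic

/-!
# The origin of the closed fibre of the projective quadric `z² + b z w + c w² + ∑ x_i x_{m+i}`

* `mem_nsOpen` : over a discrete valuation ring, `b, c ∈ 𝔪`, `b² - 4 c ≠ 0`, every point except the
  origin of the closed fibre is in the nonsingular locus `nsOpen`;
* `isClosed_pt` : the origin is a closed point over the closed point of the base.
-/

set_option autoImplicit false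
universe u
open CategoryTheory CategoryTheory.Limits AlgebraicGeometry IsLocalRing VanCyc MvPolynomial

namespace Groth.Agent.Lefpen.H665.OriginPt

open Groth.Agent.Vancyc.H694.StdT Groth.Agent.Vancyc.H694.Origin
open Groth.Agent.Lefpen.H713.HypProj Groth.Agent.Vancyc.H517.HypJac Groth.Agent.Vancyc.H517.Homog
open Groth.Agent.Lefpen.H724.Quad

section Poly

variable (A : Type u) [CommRing A] (m : ℕ)

lemma lo_ne_hi {m : ℕ} (i i' : Fin m) : lo m i ≠ hi m i' := by
  intro h
  have := congrArg Fin.val h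
  simp only [lo, hi] at this
  omega

/-- the split form in the last `2 m` variables -/
lemma rename_quadPoly : rename Fin.succ (quadPoly (stdT A m)) =
    ∑ i : Fin m, X (lo m i).succ * X (hi m i).succ := by
  rw [quadPoly_stdT, map_sum]
  refine Finset.sum_congr rfl fun i _ => ?_
  rw [map_mul, rename_X, rename_X]

lemma pderiv_lo (i : Fin m) :
    pderiv (lo m i).succ (rename Fin.succ (quadPoly (stdT A m))) = X (hi m i).succ := by
  rw [rename_quadPoly, map_sum, Finset.sum_eq_single i]
  · rw [Derivation.leibniz, pderiv_X_self,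
      pderiv_X_of_ne (fun h => lo_ne_hi i i (Fin.succ_injective _ h).symm)]
    simp
  · intro i' _ hi'
    rw [Derivation.leibniz, pderiv_X_of_ne (fun h => lo_ne_hi i i' (Fin.succ_injective _ h).symm),
      pderiv_X_of_ne (fun h => hi' (lo_injective (Fin.succ_injective _ h)))]
    simp
  · intro h
    exact absurd (Finset.mem_univ _) h

lemma pderiv_hi (i : Fin m) :
    pderiv (hi m i).succ (rename Fin.succ (quadPoly (stdT A m))) = X (lo m i).succ := by
  rw [rename_quadPoly, map_sum, Finset.sum_eq_single i]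
  · rw [Derivation.leibniz, pderiv_X_self,
      pderiv_X_of_ne (fun h => lo_ne_hi i i (Fin.succ_injective _ h))]
    simp
  · intro i' _ hi'
    rw [Derivation.leibniz, pderiv_X_of_ne (fun h => lo_ne_hi i' i (Fin.succ_injective _ h)),
      pderiv_X_of_ne (fun h => hi' (hi_injective (Fin.succ_injective _ h)))]
    simp
  · intro h
    exact absurd (Finset.mem_univ _) h

lemma pderiv_zero : pderiv 0 (rename Fin.succ (quadPoly (stdT A m))) = 0 := by
  rw [rename_quadPoly, map_sum]
  refine Finset.sum_eq_zero fun i _ => ?_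
  rw [Derivation.leibniz, pderiv_X_of_ne (Fin.succ_ne_zero _), pderiv_X_of_ne (Fin.succ_ne_zero _)]
  simp

variable (b c : A)

lemma pderiv_FE_zero : pderiv 0 (degQuadPoly A (stdT A m) b c) = 2 * X 0 + C b := by
  rw [degQuadPoly, map_add, map_add, map_add, pderiv_zero, Derivation.leibniz_pow,
    Derivation.leibniz, pderiv_X_self, pderiv_C, pderiv_C]
  simp

lemma pderiv_FE_succ (j : Fin (2 * m)) : pderiv j.succ (degQuadPoly A (stdT A m) b c) =
    pderiv j.succ (rename Fin.succ (quadPoly (stdT A m))) := by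
  rw [degQuadPoly, map_add, map_add, map_add,
    Derivation.leibniz_pow, Derivation.leibniz, pderiv_X_of_ne (Fin.succ_ne_zero j).symm, pderiv_C, pderiv_C]
  simp

/-- the part of degree two -/
noncomputable def top2 : MvPolynomial (Fin (2 * m + 1)) A := X 0 ^ 2 + rename Fin.succ (quadPoly (stdT A m))

lemma homogeneousComponent_two :
    homogeneousComponent 2 (degQuadPoly A (stdT A m) b c) = top2 A m := by
  have h1 : (X 0 ^ 2 : MvPolynomial (Fin (2 * m + 1)) A).IsHomogeneous 2 := by
    have := (isHomogeneous_X A (0 : Fin (2 * m + 1))).pow 2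
    rwa [one_mul] at this
  have h2 : (C b * X 0 : MvPolynomial (Fin (2 * m + 1)) A).IsHomogeneous 1 := by
    have := (isHomogeneous_C (Fin (2 * m + 1)) b).mul (isHomogeneous_X A 0)
    rwa [zero_add] at this
  have h3 : (C c : MvPolynomial (Fin (2 * m + 1)) A).IsHomogeneous 0 := isHomogeneous_C _ c
  have h4 : (rename Fin.succ (quadPoly (stdT A m))).IsHomogeneous 2 :=
    (isHomogeneous_quadPoly _).rename_isHomogeneous
  rw [degQuadPoly, map_add, map_add, map_add, homogeneousComponent_of_mem h1,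
    homogeneousComponent_of_mem h2, homogeneousComponent_of_mem h3, homogeneousComponent_of_mem h4,
    top2, if_pos rfl, if_neg (by norm_num), if_neg (by norm_num), if_pos rfl, add_zero, add_zero]

lemma pderiv_top2_succ (j : Fin (2 * m)) : pderiv j.succ (top2 A m) =
    pderiv j.succ (rename Fin.succ (quadPoly (stdT A m))) := by
  rw [top2, map_add, Derivation.leibniz_pow, pderiv_X_of_ne (Fin.succ_ne_zero j).symm]
  simp

lemma X_lo_mem (i : Fin m) : (X (lo m i).succ : MvPolynomial (Fin (2 * m + 1)) A) ∈ jacI (top2 A m) := by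
  rw [← pderiv_hi, ← pderiv_top2_succ]
  exact pderiv_mem_jacI _ _

lemma X_hi_mem (i : Fin m) : (X (hi m i).succ : MvPolynomial (Fin (2 * m + 1)) A) ∈ jacI (top2 A m) := by
  rw [← pderiv_lo, ← pderiv_top2_succ]
  exact pderiv_mem_jacI _ _

/-- The form at infinity `z² + ∑ x_i x_{m+i}` is nonsingular in every characteristic. -/
theorem nonsingForm : NonsingForm (top2 A m) := by
  intro j
  refine Fin.cases ?_ (fun j => ?_) j
  · refine ⟨2, ?_⟩
    have h1 : (X 0 ^ 2 : MvPolynomial (Fin (2 * m + 1)) A) =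
        top2 A m - ∑ i : Fin m, X (lo m i).succ * X (hi m i).succ := by
      rw [top2, rename_quadPoly, add_sub_cancel_right]
    rw [h1]
    exact Ideal.sub_mem _ (self_mem_jacI _) (Ideal.sum_mem _ fun i _ => Ideal.mul_mem_right _ _ (X_lo_mem A m i))
  · rcases eq_lo_or_hi j with ⟨i, rfl⟩ | ⟨i, rfl⟩
    · exact ⟨1, by rw [pow_one]; exact X_lo_mem A m i⟩
    · exact ⟨1, by rw [pow_one]; exact X_hi_mem A m i⟩

end Poly

/-- A prime of the coordinate ring containing all partial derivatives is the origin. -/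
theorem eq_origQ (R : Type u) [CommRing R] [IsDomain R] [IsDiscreteValuationRing R] (m : ℕ) (b c : R)
    (hb : b ∈ maximalIdeal R) (hc : c ∈ maximalIdeal R) (hd : b ^ 2 - 4 * c ≠ 0)
    (F : MvPolynomial (Fin (2 * m + 1)) R) (hF : F = degQuadPoly R (stdT R m) b c)
    (P' : Ideal (MvPolynomial (Fin (2 * m + 1)) R ⧸ Ideal.span {F})) (hyp : P'.IsPrime)
    (hy' : ∀ j, Ideal.Quotient.mk (Ideal.span {F}) (pderiv j F) ∈ P') : P' = origQ F := by
  obtain ⟨P, hPdef⟩ : ∃ P : Ideal (MvPolynomial (Fin (2 * m + 1)) R),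
      P = P'.comap (Ideal.Quotient.mk (Ideal.span {F})) := ⟨_, rfl⟩
  have hP : P.IsPrime := by rw [hPdef]; exact Ideal.comap_isPrime _ _
  have hpd : ∀ j, pderiv j F ∈ P := fun j => by rw [hPdef]; exact hy' j
  have hFP : F ∈ P := by
    rw [hPdef, Ideal.mem_comap, Ideal.Quotient.eq_zero_iff_mem.mpr (Ideal.mem_span_singleton_self _)]
    exact zero_mem _
  have hlo : ∀ i : Fin m, (X (lo m i).succ : MvPolynomial (Fin (2 * m + 1)) R) ∈ P := fun i => by
    have := hpd (hi m i).succ
    rwa [hF, pderiv_FE_succ, pderiv_hi] at this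
  have hhi : ∀ i : Fin m, (X (hi m i).succ : MvPolynomial (Fin (2 * m + 1)) R) ∈ P := fun i => by
    have := hpd (lo m i).succ
    rwa [hF, pderiv_FE_succ, pderiv_lo] at this
  have hz1 : (2 * X 0 + C b : MvPolynomial (Fin (2 * m + 1)) R) ∈ P := by
    have := hpd 0
    rwa [hF, pderiv_FE_zero] at this
  have hz2 : (X 0 ^ 2 + C b * X 0 + C c : MvPolynomial (Fin (2 * m + 1)) R) ∈ P := by
    have h3 : (X 0 ^ 2 + C b * X 0 + C c : MvPolynomial (Fin (2 * m + 1)) R) =
        F - ∑ i : Fin m, X (lo m i).succ * X (hi m i).succ := by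
      rw [hF, degQuadPoly, rename_quadPoly, add_sub_cancel_right]
    rw [h3]
    exact Ideal.sub_mem _ hFP (Ideal.sum_mem _ fun i _ => Ideal.mul_mem_right _ _ (hlo i))
  have hdP : (C (b ^ 2 - 4 * c) : MvPolynomial (Fin (2 * m + 1)) R) ∈ P := by
    have h3 : (C (b ^ 2 - 4 * c) : MvPolynomial (Fin (2 * m + 1)) R) =
        (2 * X 0 + C b) * (2 * X 0 + C b) - 4 * (X 0 ^ 2 + C b * X 0 + C c) := by
      rw [map_sub, map_mul, map_pow, show (C (4 : R) : MvPolynomial (Fin (2 * m + 1)) R) = 4 from map_ofNat C 4]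
      ring
    rw [h3]
    exact Ideal.sub_mem _ (Ideal.mul_mem_left _ _ hz1) (Ideal.mul_mem_left _ _ hz2)
  -- the trace of `P` on `R` is the maximal ideal
  have hPR : P.comap C = maximalIdeal R := by
    have h3 : (P.comap (C : R →+* MvPolynomial (Fin (2 * m + 1)) R)).IsPrime := Ideal.comap_isPrime _ _
    have h4 : P.comap (C : R →+* MvPolynomial (Fin (2 * m + 1)) R) ≠ ⊥ := by
      intro h
      apply hd
      have h5 : b ^ 2 - 4 * c ∈ P.comap (C : R →+* MvPolynomial (Fin (2 * m + 1)) R) := hdP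
      rw [h] at h5
      exact h5
    exact IsLocalRing.eq_maximalIdeal (Ring.DimensionLEOne.maximalOfPrime h4 h3)
  have hm : ∀ r ∈ maximalIdeal R, (C r : MvPolynomial (Fin (2 * m + 1)) R) ∈ P := fun r hr => by
    rw [← hPR] at hr
    exact hr
  have hz : (X 0 : MvPolynomial (Fin (2 * m + 1)) R) ∈ P := by
    refine hP.mem_of_pow_mem 2 ?_
    have h3 : (X 0 ^ 2 : MvPolynomial (Fin (2 * m + 1)) R) =
        (X 0 ^ 2 + C b * X 0 + C c) - C b * X 0 - C c := by ring
    rw [h3]
    exact Ideal.sub_mem _ (Ideal.sub_mem _ hz2 (Ideal.mul_mem_right _ _ (hm b hb))) (hm c hc)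
  have hle : orig R (Fin (2 * m + 1)) ≤ P := by
    refine sup_le ?_ ?_
    · rw [Ideal.map_le_iff_le_comap, hPR]
    · rw [Ideal.span_le]
      rintro _ ⟨j, rfl⟩
      refine Fin.cases hz (fun j => ?_) j
      rcases eq_lo_or_hi j with ⟨i, rfl⟩ | ⟨i, rfl⟩
      · exact hlo i
      · exact hhi i
  have hle2 : origQ F ≤ P' := by
    rw [origQ, Ideal.map_le_iff_le_comap, ← hPdef]
    exact hle
  have hmax : (origQ F).IsMaximal := isMaximal_origQ (by rw [hF, constantCoeff_degQuadPoly]; exact hc)
  exact (hmax.eq_of_le hyp.ne_top hle2).symm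

/-- (P1) -/
theorem mem_nsOpen (R : Type u) [CommRing R] [IsDomain R] [IsDiscreteValuationRing R] (m : ℕ) (b c : R)
    (hb : b ∈ maximalIdeal R) (hc : c ∈ maximalIdeal R)
    (h2 : (b = 0 ∧ IsUnit (2 : R)) ∨ (2 : R) ∈ maximalIdeal R) (hd : b ^ 2 - 4 * c ≠ 0)
    (y : Spec (CommRingCat.of (degQuadRing R (stdT R m) b c)))
    (hy : PrimeSpectrum.asIdeal y = origQ (degQuadPoly R (stdT R m) b c))
    (x : Hyp (qf R m b c)) (hx : x ≠ aff (totalDegree_le R m b c) y) : x ∈ nsOpen (qf R m b c) := by
  by_contra hns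
  obtain ⟨y', rfl, hy'⟩ := exists_of_notMem_nsOpen (totalDegree_le R m b c)
    (by rw [homogeneousComponent_two]; exact nonsingForm R m) x hns
  apply hx
  congr 1
  apply PrimeSpectrum.ext
  rw [hy]
  exact eq_origQ R m b c hb hc hd _ rfl _ y'.isPrime hy'

/-- A closed point from a section over a residue field. -/
theorem isClosed_of_section {X S : Scheme.{u}} (κ : Type u) [Field κ]
    (s : Spec (CommRingCat.of κ) ⟶ X) (p : X ⟶ S) [IsSeparated p] (t : Spec (CommRingCat.of κ) ⟶ S)
    (hs : s ≫ p = t) (ht : IsClosedImmersion t) (x : X) (hx : ∀ z, s z = x) :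
    IsClosed ({x} : Set X) ∧ ∀ z, p x = t z := by
  have hci : IsClosedImmersion (s ≫ p) := by rw [hs]; exact ht
  have hci2 : IsClosedImmersion s := IsClosedImmersion.of_comp s p
  constructor
  · have h1 : ({x} : Set X) = Set.range s := by
      ext x'
      constructor
      · intro hx'
        exact ⟨(closedPoint κ : PrimeSpectrum κ), (hx _).trans hx'.symm⟩
      · rintro ⟨z, rfl⟩
        exact hx z
    rw [h1]
    exact s.isClosedEmbedding.isClosed_range
  · intro z
    rw [← hx z, ← Scheme.Hom.comp_apply, hs]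

/-- the residue map at the origin -/
noncomputable def resMap {R : Type u} [CommRing R] [IsLocalRing R] {n : ℕ}
    (F : MvPolynomial (Fin n) R) (hcF : constantCoeff F ∈ maximalIdeal R) :
    (MvPolynomial (Fin n) R ⧸ Ideal.span {F}) →+* ResidueField R :=
  Ideal.Quotient.lift (Ideal.span {F}) ((residue R).comp constantCoeff) (by
    intro a ha
    obtain ⟨q, rfl⟩ := Ideal.mem_span_singleton.1 ha
    rw [map_mul, RingHom.comp_apply, (residue_eq_zero_iff _).2 hcF, zero_mul])

theorem resMap_mk {R : Type u} [CommRing R] [IsLocalRing R] {n : ℕ}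
    (F : MvPolynomial (Fin n) R) (hcF : constantCoeff F ∈ maximalIdeal R) (p : MvPolynomial (Fin n) R) :
    resMap F hcF (Ideal.Quotient.mk _ p) = residue R (constantCoeff p) := rfl

theorem ker_resMap {R : Type u} [CommRing R] [IsLocalRing R] {n : ℕ}
    (F : MvPolynomial (Fin n) R) (hcF : constantCoeff F ∈ maximalIdeal R) :
    RingHom.ker (resMap F hcF) = origQ F := by
  have h1 := isMaximal_origQ hcF
  refine (h1.eq_of_le (RingHom.ker_ne_top _) ?_).symm
  rw [origQ, Ideal.map_le_iff_le_comap]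
  intro p hp
  rw [Ideal.mem_comap, RingHom.mem_ker, resMap_mk, residue_eq_zero_iff]
  exact (mem_orig_iff p).1 hp

theorem resMap_C {R : Type u} [CommRing R] [IsLocalRing R] {n : ℕ}
    (F : MvPolynomial (Fin n) R) (hcF : constantCoeff F ∈ maximalIdeal R) :
    (resMap F hcF).comp ((Ideal.Quotient.mk (Ideal.span {F})).comp C) = residue R := by
  ext r
  change resMap F hcF (Ideal.Quotient.mk _ (C r)) = _
  rw [resMap_mk, constantCoeff_C]

/-- the origin of an affine hypersurface, as a `κ`-point -/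
theorem spec_resMap {R : Type u} [CommRing R] [IsLocalRing R] {n : ℕ}
    (F : MvPolynomial (Fin n) R) (hcF : constantCoeff F ∈ maximalIdeal R)
    (y : Spec (CommRingCat.of (MvPolynomial (Fin n) R ⧸ Ideal.span {F})))
    (hy : PrimeSpectrum.asIdeal y = origQ F) (z : Spec (CommRingCat.of (ResidueField R))) :
    Spec.map (CommRingCat.ofHom (resMap F hcF)) z = y := by
  apply PrimeSpectrum.ext
  rw [hy, ← ker_resMap F hcF]
  have hz : PrimeSpectrum.asIdeal z = ⊥ := Ideal.eq_bot_of_prime _
  change (PrimeSpectrum.asIdeal z).comap (resMap F hcF) = _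
  rw [hz]
  rfl

/-- (P1') for a general hypersurface -/
theorem isClosed_aux {R : Type u} [CommRing R] [IsLocalRing R] {n : ℕ}
    (F : MvPolynomial (Fin n) R) (hcF : constantCoeff F ∈ maximalIdeal R)
    {X : Scheme.{u}} (p : X ⟶ Spec (CommRingCat.of R)) [IsSeparated p]
    (a : Spec (CommRingCat.of (MvPolynomial (Fin n) R ⧸ Ideal.span {F})) ⟶ X)
    (ha : a ≫ p = Spec.map (CommRingCat.ofHom ((Ideal.Quotient.mk (Ideal.span {F})).comp C)))
    (y : Spec (CommRingCat.of (MvPolynomial (Fin n) R ⧸ Ideal.span {F})))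
    (hy : PrimeSpectrum.asIdeal y = origQ F) :
    IsClosed ({a y} : Set X) ∧ p (a y) = closedPoint R := by
  have h := isClosed_of_section (ResidueField R)
    (Spec.map (CommRingCat.ofHom (resMap F hcF)) ≫ a) p
    (Spec.map (CommRingCat.ofHom (residue R))) (by
      rw [Category.assoc, ha, ← Spec.map_comp, ← CommRingCat.ofHom_comp, resMap_C])
    (IsClosedImmersion.spec_of_surjective _ residue_surjective) (a y) (fun z => by
      rw [Scheme.Hom.comp_apply, spec_resMap F hcF y hy z])
  refine ⟨h.1, (h.2 (closedPoint (ResidueField R) : PrimeSpectrum (ResidueField R))).trans ?_⟩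
  apply PrimeSpectrum.ext
  change (maximalIdeal (ResidueField R)).comap (residue R) = maximalIdeal R
  rw [show maximalIdeal (ResidueField R) = ⊥ from Ideal.eq_bot_of_prime _, ← RingHom.ker_eq_comap_bot]
  exact ker_residue

/-- (P1') -/
theorem isClosed_pt (R : Type u) [CommRing R] [IsLocalRing R] (m : ℕ) (b c : R)
    (hb : b ∈ maximalIdeal R) (hc : c ∈ maximalIdeal R)
    (y : Spec (CommRingCat.of (degQuadRing R (stdT R m) b c)))
    (hy : PrimeSpectrum.asIdeal y = origQ (degQuadPoly R (stdT R m) b c)) :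
    IsClosed ({aff (totalDegree_le R m b c) y} : Set (Hyp (qf R m b c))) ∧
      toSpec (qf R m b c) (aff (totalDegree_le R m b c) y) = closedPoint R :=
  isClosed_aux (degQuadPoly R (stdT R m) b c) (by rw [constantCoeff_degQuadPoly]; exact hc)
    (toSpec (qf R m b c)) (aff (totalDegree_le R m b c)) (aff_toSpec (totalDegree_le R m b c)) y hy

end Groth.Agent.Lefpen.H665.OriginPt
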